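import Mathlib

/-!
# Right exact functors on finitely presented modules with prescribed value on the ring
-/

universe v' u' u

open CategoryTheory CategoryTheory.Limits

namespace Groth.Agent.FunMorLib

variable {A : Type u} [CommRing A] {B : Type u'} [Category.{v'} B] [Preadditive B]
  {K : B} (κ : A →+* End K)

/-- Morphisms out of `K`, as a module over `A` through `κ`. -/
def HK (_κ : A →+* End K) (T : B) : Type v' := K ⟶ T

variable {κ}

instance (T : B) : AddCommGroup (HK κ T) := inferInstanceAs (AddCommGroup (K ⟶ T))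

instance (T : B) : Module A (HK κ T) where
  smul a g := (κ a : K ⟶ K) ≫ (g : K ⟶ T)
  one_smul g := by
    show (κ 1 : K ⟶ K) ≫ (g : K ⟶ T) = g
    rw [map_one]; exact Category.id_comp _
  mul_smul a b g := by
    show (κ (a * b) : K ⟶ K) ≫ (g : K ⟶ T) = (κ a : K ⟶ K) ≫ ((κ b : K ⟶ K) ≫ g)
    rw [mul_comm a b, map_mul]; exact Category.assoc _ _ _
  smul_zero a := comp_zero
  zero_smul g := by
    show (κ 0 : K ⟶ K) ≫ (g : K ⟶ T) = 0
    rw [map_zero]; exact zero_comp
  smul_add a g g' := Preadditive.comp_add _ _ _ _ _ _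
  add_smul a b g := by
    show (κ (a + b) : K ⟶ K) ≫ (g : K ⟶ T) = (κ a : K ⟶ K) ≫ g + (κ b : K ⟶ K) ≫ g
    rw [map_add]; exact Preadditive.add_comp _ _ _ _ _ _

theorem smul_def {T : B} (a : A) (g : HK κ T) : a • g = ((κ a : K ⟶ K) ≫ (g : K ⟶ T) : K ⟶ T) := rfl

/-- Composition with a morphism, as a linear map. -/
def post {X T : B} (s : X ⟶ T) : HK κ X →ₗ[A] HK κ T where
  toFun g := (g : K ⟶ X) ≫ s
  map_add' _ _ := Preadditive.add_comp _ _ _ _ _ _
  map_smul' _ _ := Category.assoc _ _ _

theorem post_comp {X T W : B} (s : X ⟶ T) (t : T ⟶ W) :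
    post (κ := κ) (s ≫ t) = (post t).comp (post s) :=
  LinearMap.ext fun _ => (Category.assoc _ _ _).symm

theorem post_id (X : B) : post (κ := κ) (𝟙 X) = LinearMap.id := LinearMap.ext fun _ => Category.comp_id _

theorem post_add {X T : B} (s t : X ⟶ T) : post (κ := κ) (s + t) = post s + post t :=
  LinearMap.ext fun _ => Preadditive.comp_add _ _ _ _ _ _

variable (κ)

/-- An object corepresenting `T ↦ Hom_A (M, Hom (K, T))`. -/
structure Rep (M : Type u) [AddCommGroup M] [Module A M] where
  X : B
  el : M →ₗ[A] HK κ X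
  univ : ∀ (T : B) (φ : M →ₗ[A] HK κ T), ∃! s : X ⟶ T, (post s).comp el = φ

variable {κ}

theorem nonempty_rep [HasFiniteBiproducts B] [HasCokernels B] (M : Type u) [AddCommGroup M] [Module A M]
    [Module.FinitePresentation A M] : Nonempty (Rep κ M) := by
  classical
  obtain ⟨n, π, hπ⟩ := Module.Finite.exists_fin' A M
  obtain ⟨m, r, hr⟩ := Submodule.fg_iff_exists_fin_generating_family.1 (Module.FinitePresentation.fg_ker π hπ)
  let ρ : (⨁ fun _ : Fin m => K) ⟶ ⨁ fun _ : Fin n => K :=
    biproduct.matrix fun j i => κ (r j i)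
  let q := cokernel.π ρ
  let g : Fin n → HK κ (cokernel ρ) := fun i => biproduct.ι (fun _ : Fin n => K) i ≫ q
  let L : (Fin n → A) →ₗ[A] HK κ (cokernel ρ) := Fintype.linearCombination A g
  have hrow : ∀ {T : B} (t : Fin n → HK κ T) (j : Fin m),
      biproduct.ι (fun _ : Fin m => K) j ≫ ρ ≫ biproduct.desc (fun i => (t i : K ⟶ T)) =
        Fintype.linearCombination A t (r j) := by
    intro T t j
    rw [Fintype.linearCombination_apply, ← Category.assoc, biproduct.ι_matrix]
    erw [biproduct.lift_desc]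
    rfl
  have hg : biproduct.desc (fun i => (g i : K ⟶ cokernel ρ)) = q :=
    biproduct.hom_ext' _ _ fun i => biproduct.ι_desc _ _
  have hL : LinearMap.ker π ≤ LinearMap.ker L := by
    rw [← hr, Submodule.span_le]
    rintro _ ⟨j, rfl⟩
    show L (r j) = 0
    rw [← hrow g j, hg, cokernel.condition, comp_zero]
    rfl
  let el : M →ₗ[A] HK κ (cokernel ρ) :=
    (Submodule.liftQ _ L hL).comp (π.quotKerEquivOfSurjective hπ).symm.toLinearMap
  have hel : ∀ x, el (π x) = L x := fun x => by
    simp only [el, LinearMap.comp_apply, LinearEquiv.coe_coe]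
    rw [show (π.quotKerEquivOfSurjective hπ).symm (π x) = Submodule.Quotient.mk x from
      (LinearEquiv.symm_apply_eq _).2 rfl]
    rfl
  refine ⟨⟨cokernel ρ, el, fun T φ => ?_⟩⟩
  let t : Fin n → HK κ T := fun i => φ (π (Pi.single i 1))
  have ht : Fintype.linearCombination A t = φ.comp π :=
    (Pi.basisFun A (Fin n)).ext fun i => by simp [t, Fintype.linearCombination_apply_single]
  have hρ : ρ ≫ biproduct.desc (fun i => (t i : K ⟶ T)) = 0 :=
    biproduct.hom_ext' _ _ fun j => by
      rw [hrow t j, comp_zero, ht, LinearMap.comp_apply,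
        show π (r j) = 0 from (hr ▸ Submodule.subset_span ⟨j, rfl⟩ : r j ∈ LinearMap.ker π), map_zero]
      rfl
  refine ⟨cokernel.desc ρ _ hρ, LinearMap.ext fun y => ?_, fun s hs => coequalizer.hom_ext (biproduct.hom_ext' _ _ fun i => ?_)⟩
  · obtain ⟨x, rfl⟩ := hπ y
    rw [LinearMap.comp_apply, hel]
    refine (LinearMap.congr_fun ?_ x : ((post (cokernel.desc ρ _ hρ)).comp L) x = (φ.comp π) x)
    rw [← ht]
    refine (Pi.basisFun A (Fin n)).ext fun i => ?_
    simp only [LinearMap.comp_apply, Pi.basisFun_apply, L, Fintype.linearCombination_apply_single, one_smul]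
    show ((biproduct.ι (fun _ : Fin n => K) i ≫ q) ≫ cokernel.desc ρ _ hρ : K ⟶ T) = t i
    erw [Category.assoc, cokernel.π_desc, biproduct.ι_desc]
  · show biproduct.ι (fun _ : Fin n => K) i ≫ q ≫ s = biproduct.ι _ i ≫ q ≫ cokernel.desc ρ _ hρ
    erw [cokernel.π_desc, biproduct.ι_desc]
    have h1 := LinearMap.congr_fun hs (π (Pi.single i 1))
    rw [LinearMap.comp_apply, hel] at h1
    simp only [L, Fintype.linearCombination_apply_single, one_smul] at h1
    rw [← Category.assoc]
    exact h1

variable [HasFiniteBiproducts B] [HasCokernels B]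

variable (κ) in
/-- A chosen corepresenting object. -/
noncomputable def rep (M : Type u) [AddCommGroup M] [Module A M] [Module.FinitePresentation A M] : Rep κ M :=
  (nonempty_rep M).some

theorem Rep.hom_ext {M : Type u} [AddCommGroup M] [Module A M] (R : Rep κ M) {T : B} {s t : R.X ⟶ T}
    (h : (post s).comp R.el = (post t).comp R.el) : s = t :=
  (R.univ T _).unique h rfl

/-- The property of being finitely presented. -/
abbrev isFP (A : Type u) [CommRing A] : ObjectProperty (ModuleCat.{u} A) :=
  fun M => Module.FinitePresentation A M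

instance (M : (isFP A).FullSubcategory) : Module.FinitePresentation A M.obj := M.property

variable (κ) in
/-- The functor on finitely presented modules. -/
noncomputable def ext : (isFP A).FullSubcategory ⥤ B where
  obj M := (rep κ M.obj).X
  map {M N} f := ((rep κ M.obj).univ _ ((rep κ N.obj).el.comp f.hom.hom)).choose
  map_id M := Rep.hom_ext _ <| by
    rw [((rep κ M.obj).univ _ _).choose_spec.1, post_id]
    rfl
  map_comp {M N P} f g := Rep.hom_ext _ <| by
    rw [((rep κ M.obj).univ _ _).choose_spec.1, post_comp, LinearMap.comp_assoc,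
      ((rep κ M.obj).univ _ _).choose_spec.1, ← LinearMap.comp_assoc,
      ((rep κ N.obj).univ _ _).choose_spec.1]
    rfl

variable (κ) in
/-- The universal element. -/
noncomputable def el (M : (isFP A).FullSubcategory) : M.obj →ₗ[A] HK κ ((ext κ).obj M) := (rep κ M.obj).el

theorem ext_el {M N : (isFP A).FullSubcategory} (f : M ⟶ N) :
    (post ((ext κ).map f)).comp (el κ M) = (el κ N).comp f.hom.hom :=
  ((rep κ M.obj).univ _ _).choose_spec.1

theorem ext_univ (M : (isFP A).FullSubcategory) {T : B} (φ : M.obj →ₗ[A] HK κ T) :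
    ∃! s : (ext κ).obj M ⟶ T, (post s).comp (el κ M) = φ :=
  (rep κ M.obj).univ T φ

theorem ext_hom_ext {M : (isFP A).FullSubcategory} {T : B} {s t : (ext κ).obj M ⟶ T}
    (h : (post s).comp (el κ M) = (post t).comp (el κ M)) : s = t :=
  Rep.hom_ext _ h

instance : (ext κ).Additive where
  map_add {M N f g} := ext_hom_ext <| by
    rw [ext_el, post_add, LinearMap.add_comp, ext_el, ext_el]
    exact LinearMap.comp_add _ _ _

instance : (isFP A).IsClosedUnderIsomorphisms where
  of_iso e h := by
    haveI : Module.FinitePresentation A _ := h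
    exact Module.FinitePresentation.of_equiv e.toLinearEquiv

instance (ι : Type) [Finite ι] : (isFP A).IsClosedUnderColimitsOfShape (Discrete ι) := by
  refine ObjectProperty.IsClosedUnderColimitsOfShape.mk' ?_
  rintro _ ⟨F, hF⟩
  let f : ι → ModuleCat.{u} A := fun i => F.obj ⟨i⟩
  haveI : ∀ i, Module.FinitePresentation A (f i) := fun i => hF ⟨i⟩
  let e : colimit F ≅ ModuleCat.of A (∀ i, f i) :=
    HasColimit.isoOfNatIso Discrete.natIsoFunctor ≪≫ (biproduct.isoCoproduct f).symm ≪≫ ModuleCat.biproductIsoPi f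
  exact (isFP A).prop_of_iso e.symm (Module.FinitePresentation.pi _)

instance : HasFiniteCoproducts (isFP A).FullSubcategory :=
  ⟨fun _ => inferInstance⟩

instance : HasZeroObject (isFP A).FullSubcategory :=
  ⟨⟨⟨ModuleCat.of A PUnit, inferInstanceAs (Module.FinitePresentation A PUnit.{u + 1})⟩,
    IsZero.of_iso ((IsZero.iff_id_eq_zero _).2 (ObjectProperty.hom_ext _ (ModuleCat.hom_ext
      (LinearMap.ext fun _ => Subsingleton.elim _ _)))) (Iso.refl _)⟩⟩

section Coker

variable {M N : (isFP A).FullSubcategory} (f : M ⟶ N)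

/-- The cokernel in finitely presented modules. -/
abbrev cokObj : (isFP A).FullSubcategory :=
  ⟨ModuleCat.of A (N.obj ⧸ LinearMap.range f.hom.hom),
    Module.finitePresentation_of_surjective (Submodule.mkQ _) (Submodule.mkQ_surjective _) (by
      rw [Submodule.ker_mkQ, LinearMap.range_eq_map]
      exact Module.Finite.fg_top.map _)⟩

/-- The projection onto the cokernel. -/
abbrev cokπ : N ⟶ cokObj f := ObjectProperty.homMk (ModuleCat.ofHom (Submodule.mkQ _))

theorem cok_condition : f ≫ cokπ f = 0 :=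
  ObjectProperty.hom_ext _ <| ModuleCat.hom_ext <| LinearMap.ext fun x =>
    (Submodule.Quotient.mk_eq_zero _).2 ⟨x, rfl⟩

/-- The universal property of the cokernel. -/
noncomputable def isColimitCok : IsColimit (CokernelCofork.ofπ (cokπ f) (cok_condition f)) :=
  CokernelCofork.IsColimit.ofπ _ _
    (fun g h => ObjectProperty.homMk (ModuleCat.ofHom (Submodule.liftQ _ g.hom.hom (by
      rintro _ ⟨x, rfl⟩
      exact congrArg (fun φ : M ⟶ _ => φ.hom.hom x) h))))
    (fun g h => ObjectProperty.hom_ext _ <| ModuleCat.hom_ext <| LinearMap.ext fun x => rfl)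
    (fun g h b hb => ObjectProperty.hom_ext _ <| ModuleCat.hom_ext <| Submodule.linearMap_qext _ <|
      LinearMap.ext fun x => congrArg (fun φ : N ⟶ _ => φ.hom.hom x) hb)

instance : PreservesColimit (parallelPair f 0) (ext κ) := by
  refine preservesColimit_of_preserves_colimit_cocone (isColimitCok f) ?_
  refine (CokernelCofork.isColimitMapCoconeEquiv _ _).2 ?_
  have hk : ∀ {T : B} (g : (ext κ).obj N ⟶ T), (ext κ).map f ≫ g = 0 →
      LinearMap.range f.hom.hom ≤ LinearMap.ker ((post g).comp (el κ N)) := by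
    rintro T g hg _ ⟨x, rfl⟩
    have h1 := LinearMap.congr_fun (ext_el (κ := κ) f) x
    have h2 : (post g) ((post ((ext κ).map f)) ((el κ M) x)) = 0 := by
      show (((el κ M) x : K ⟶ _) ≫ (ext κ).map f) ≫ g = (0 : K ⟶ T)
      erw [Category.assoc, hg, comp_zero]
    rw [LinearMap.comp_apply] at h1
    rw [h1] at h2
    exact h2
  have key : ∀ {T : B} (g : (ext κ).obj N ⟶ T) (hg : (ext κ).map f ≫ g = 0),
      ∃! s : (ext κ).obj (cokObj f) ⟶ T, (ext κ).map (cokπ f) ≫ s = g := by
    intro T g hg
    obtain ⟨s, hs, hu⟩ := ext_univ (κ := κ) (cokObj f) (Submodule.liftQ _ _ (hk g hg))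
    refine ⟨s, ext_hom_ext ?_, fun s' hs' => hu s' ?_⟩
    · rw [post_comp, LinearMap.comp_assoc, ext_el, ← LinearMap.comp_assoc, hs]
      exact Submodule.liftQ_mkQ _ _ _
    · refine Submodule.linearMap_qext _ ?_
      rw [Submodule.liftQ_mkQ, ← hs', post_comp]
      rw [LinearMap.comp_assoc, LinearMap.comp_assoc, ext_el]
      rfl
  exact CokernelCofork.IsColimit.ofπ _
    (show (ext κ).map f ≫ (ext κ).map (cokπ f) = 0 by rw [← Functor.map_comp, cok_condition, Functor.map_zero])
    (fun g hg => (key g hg).choose)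
    (fun g hg => (key g hg).choose_spec.1) (fun g hg b hb => (key g hg).choose_spec.2 b hb)

end Coker

instance [HasZeroObject B] : PreservesFiniteColimits (ext κ) := by
  haveI : HasCoequalizers (isFP A).FullSubcategory :=
    haveI : HasCokernels (isFP A).FullSubcategory := ⟨fun f => HasColimit.mk ⟨_, isColimitCok f⟩⟩
    Preadditive.hasCoequalizers_of_hasCokernels
  haveI : HasBinaryBiproducts (isFP A).FullSubcategory := HasBinaryBiproducts.of_hasBinaryCoproducts
  exact Functor.preservesFiniteColimits_of_preservesCokernels (ext κ)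

end Groth.Agent.FunMorLib
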