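import Groth.Agent.FunMorLib.FpExt

/-!
# Morphisms out of a right exact functor on finitely presented modules
-/

universe v' u' u

open CategoryTheory CategoryTheory.Limits

namespace Groth.Agent.FunMorLib

variable {A : Type u} [CommRing A] {B : Type u'} [Category.{v'} B] [Preadditive B]

variable (A) in
/-- The ring as a finitely presented module over itself. -/
abbrev unit : (isFP A).FullSubcategory := ⟨ModuleCat.of A A, inferInstanceAs (Module.FinitePresentation A A)⟩

variable (A) in
/-- The standard free module of rank `n`. -/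
abbrev free (n : ℕ) : (isFP A).FullSubcategory :=
  ⟨ModuleCat.of A (Fin n → A), inferInstanceAs (Module.FinitePresentation A (Fin n → A))⟩

/-- The map sending `1` to a given element. -/
abbrev sp {M : (isFP A).FullSubcategory} (m : M.obj) : unit A ⟶ M :=
  ObjectProperty.homMk (ModuleCat.ofHom (LinearMap.toSpanSingleton A M.obj m))

theorem sp_comp {M N : (isFP A).FullSubcategory} (m : M.obj) (g : M ⟶ N) : sp m ≫ g = sp (g.hom.hom m) :=
  ObjectProperty.hom_ext _ <| ModuleCat.hom_ext <| LinearMap.ext_ring <| by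
    show g.hom.hom ((1 : A) • m) = (1 : A) • g.hom.hom m
    rw [one_smul, one_smul]

/-- Multiplication by a scalar on the ring. -/
abbrev mulHom (a : A) : unit A ⟶ unit A := ObjectProperty.homMk (ModuleCat.ofHom (LinearMap.lsmul A A a))

theorem mulHom_eq (a : A) : mulHom a = sp (M := unit A) a :=
  ObjectProperty.hom_ext _ <| ModuleCat.hom_ext <| LinearMap.ext_ring <| by
    show a • (1 : A) = (1 : A) • a
    rw [smul_eq_mul, smul_eq_mul, mul_comm]

theorem sp_smul {M : (isFP A).FullSubcategory} (a : A) (m : M.obj) : sp (a • m) = mulHom a ≫ sp m :=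
  ObjectProperty.hom_ext _ <| ModuleCat.hom_ext <| LinearMap.ext_ring <| by
    show (1 : A) • a • m = (a • (1 : A)) • m
    rw [one_smul, smul_eq_mul, mul_one]

theorem sp_add {M : (isFP A).FullSubcategory} (m m' : M.obj) : sp (m + m') = sp m + sp m' :=
  ObjectProperty.hom_ext _ <| ModuleCat.hom_ext <| LinearMap.ext_ring <| by
    show (1 : A) • (m + m') = (1 : A) • m + (1 : A) • m'
    rw [smul_add]

variable [HasFiniteBiproducts B]

instance : HasBinaryBiproducts (isFP A).FullSubcategory := HasBinaryBiproducts.of_hasBinaryCoproducts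

variable (F : (isFP A).FullSubcategory ⥤ B) [PreservesFiniteColimits F]

instance additive_of_rightExact : F.Additive := by
  have : F.PreservesZeroMorphisms := inferInstance
  have : PreservesBinaryBiproducts F := preservesBinaryBiproducts_of_preservesBinaryCoproducts F
  exact Functor.additive_of_preservesBinaryBiproducts F

theorem span_free {n : ℕ} (x : Fin n → A) : sp (M := free A n) x =
    ∑ i, sp (M := unit A) (x i) ≫ sp (M := free A n) (Pi.single i 1) := by
  refine ObjectProperty.hom_ext _ (ModuleCat.hom_ext (LinearMap.ext_ring ?_))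
  have : ((isFP A).ι.map (∑ i, sp (M := unit A) (x i) ≫ sp (M := free A n) (Pi.single i 1))).hom (1 : A) =
      ∑ i, x i • (Pi.single i (1 : A) : Fin n → A) := by
    rw [Functor.map_sum, ModuleCat.hom_sum, LinearMap.sum_apply]
    refine Finset.sum_congr rfl fun i _ => ?_
    show ((1 : A) • x i) • (Pi.single i (1 : A) : Fin n → A) = _
    rw [one_smul]
  refine Eq.trans ?_ this.symm
  show (1 : A) • x = _
  rw [one_smul]
  exact pi_eq_sum_univ' x

/-- Coordinate projections. -/
abbrev pr {n : ℕ} (i : Fin n) : free A n ⟶ unit A :=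
  ObjectProperty.homMk (ModuleCat.ofHom (LinearMap.proj i))

theorem id_free (n : ℕ) : 𝟙 (free A n) = ∑ i, pr i ≫ sp (M := free A n) (Pi.single i 1) := by
  refine ObjectProperty.hom_ext _ (ModuleCat.hom_ext (LinearMap.ext fun x => ?_))
  have : ((isFP A).ι.map (∑ i, pr (A := A) i ≫ sp (M := free A n) (Pi.single i 1))).hom x =
      ∑ i, x i • (Pi.single i (1 : A) : Fin n → A) := by
    rw [Functor.map_sum, ModuleCat.hom_sum, LinearMap.sum_apply]
    rfl
  refine Eq.trans ?_ this.symm
  exact pi_eq_sum_univ' x

theorem free_hom_ext {n : ℕ} {T : B} {s t : F.obj (free A n) ⟶ T}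
    (h : ∀ i, F.map (sp (M := free A n) (Pi.single i 1)) ≫ s = F.map (sp (M := free A n) (Pi.single i 1)) ≫ t) :
    s = t := by
  rw [← Category.id_comp s, ← Category.id_comp t, ← F.map_id, id_free, F.map_sum, Preadditive.sum_comp,
    Preadditive.sum_comp]
  exact Finset.sum_congr rfl fun i _ => by rw [F.map_comp, Category.assoc, Category.assoc, h i]

/-- A right exact functor corepresents the compatible families on elements. -/
theorem existsUnique_desc (M : (isFP A).FullSubcategory) {T : B} (φ : M.obj → (F.obj (unit A) ⟶ T))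
    (hadd : ∀ x y, φ (x + y) = φ x + φ y) (hsmul : ∀ (a : A) x, φ (a • x) = F.map (mulHom a) ≫ φ x) :
    ∃! s : F.obj M ⟶ T, ∀ x, F.map (sp x) ≫ s = φ x := by
  classical
  obtain ⟨n, π, hπ⟩ := Module.Finite.exists_fin' A M.obj
  obtain ⟨m, r, hr⟩ := Submodule.fg_iff_exists_fin_generating_family.1 (Module.FinitePresentation.fg_ker π hπ)
  let p : free A n ⟶ M := ObjectProperty.homMk (ModuleCat.ofHom π)
  let f : free A m ⟶ free A n := ObjectProperty.homMk (ModuleCat.ofHom (Fintype.linearCombination A r))
  have hrange : LinearMap.range (Fintype.linearCombination A r) = LinearMap.ker π := by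
    rw [Fintype.range_linearCombination, hr]
  have hfp : f ≫ p = 0 := ObjectProperty.hom_ext _ <| ModuleCat.hom_ext <| LinearMap.ext fun x => by
    have : Fintype.linearCombination A r x ∈ LinearMap.ker π := hrange.le (LinearMap.mem_range_self _ x)
    exact this
  let e : cokObj f ≅ M := (isFP A).isoMk (LinearEquiv.toModuleIso
    ((Submodule.quotEquivOfEq _ _ hrange).trans (π.quotKerEquivOfSurjective hπ)))
  have he : cokπ f ≫ e.hom = p := ObjectProperty.hom_ext _ (ModuleCat.hom_ext (LinearMap.ext fun _ => rfl))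
  have hcok : IsColimit (CokernelCofork.ofπ p hfp) := IsColimit.ofIsoColimit (isColimitCok f) (Cofork.ext e he)
  have hF := isColimitCoforkMapOfIsColimit' F hfp hcok
  let g : F.obj (free A n) ⟶ T := ∑ i, F.map (pr i) ≫ φ (π (Pi.single i 1))
  have hφ0 : φ 0 = 0 := by
    have := hadd 0 0
    rw [add_zero] at this
    exact left_eq_add.1 this
  have hφsum : ∀ (k : ℕ) (z : Fin k → M.obj), φ (∑ i, z i) = ∑ i, φ (z i) := fun k z =>
    map_sum (AddMonoidHom.mk' φ hadd) z Finset.univ
  have hg : ∀ x : Fin n → A, F.map (sp (M := free A n) x) ≫ g = φ (π x) := by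
    intro x
    conv_rhs => rw [pi_eq_sum_univ' x, map_sum, hφsum]
    simp only [g, Preadditive.comp_sum]
    refine Finset.sum_congr rfl fun i _ => ?_
    rw [← F.map_comp_assoc, sp_comp, map_smul, hsmul, mulHom_eq]
    rfl
  have hfg : F.map f ≫ g = 0 := free_hom_ext F fun j => by
    rw [← F.map_comp_assoc, sp_comp, hg, comp_zero]
    show φ (p.hom.hom (f.hom.hom (Pi.single j 1))) = 0
    rw [show p.hom.hom (f.hom.hom (Pi.single j 1)) = 0 from congrArg (fun ψ => ψ.hom.hom (Pi.single j 1)) hfp, hφ0]
  obtain ⟨s, hs⟩ := CokernelCofork.IsColimit.desc' hF g hfg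
  have hs' : F.map p ≫ s = g := hs
  refine ⟨s, fun x => ?_, fun s' hs'' => ?_⟩
  · obtain ⟨y, rfl⟩ := hπ x
    rw [show sp (π y) = sp (M := free A n) y ≫ p from (sp_comp (M := free A n) y p).symm, F.map_comp,
      Category.assoc, hs', hg]
  · refine Cofork.IsColimit.hom_ext hF ?_
    show F.map p ≫ s' = F.map p ≫ s
    refine free_hom_ext F fun i => ?_
    rw [hs', hg, ← F.map_comp_assoc, sp_comp]
    exact hs'' _

end Groth.Agent.FunMorLib
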