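import Groth.Agent.FunMorLib.IndExt

/-!
# Additivity and coproducts for functors preserving filtered colimits
-/

universe v' u' u

open CategoryTheory CategoryTheory.Limits CoproductsFromFiniteFiltered

namespace Groth.Agent.FunMorLib

variable {A : Type u} [CommRing A] {B : Type u'} [Category.{v'} B] [Preadditive B]
  (G : ModuleCat.{u} A ⥤ B) [PreservesFilteredColimitsOfSize.{u, u} G] [(fpι A ⋙ G).Additive]

theorem additive_of_restriction : G.Additive := by
  refine ⟨fun {M N f g} => ?_⟩
  refine ((isPointwise G) M).hom_ext fun a => ?_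
  show (𝟙 _ ≫ G.map a.hom) ≫ G.map (f + g) = (𝟙 _ ≫ G.map a.hom) ≫ (G.map f + G.map g)
  rw [Category.id_comp, Preadditive.comp_add, ← G.map_comp, ← G.map_comp, ← G.map_comp, Preadditive.comp_add]
  let Q : (isFP A).FullSubcategory :=
    ⟨ModuleCat.of A (a.left.obj × a.left.obj), Module.FinitePresentation.prod _ _⟩
  let b : Q.obj ⟶ N := ModuleCat.ofHom ((a.hom ≫ f).hom.coprod (a.hom ≫ g).hom)
  let i₁ : a.left ⟶ Q := ObjectProperty.homMk (ModuleCat.ofHom (LinearMap.inl A _ _))
  let i₂ : a.left ⟶ Q := ObjectProperty.homMk (ModuleCat.ofHom (LinearMap.inr A _ _))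
  have h1 : (fpι A).map i₁ ≫ b = a.hom ≫ f := ModuleCat.hom_ext (LinearMap.coprod_inl _ _)
  have h2 : (fpι A).map i₂ ≫ b = a.hom ≫ g := ModuleCat.hom_ext (LinearMap.coprod_inr _ _)
  rw [← h1, ← h2, ← Preadditive.add_comp, ← (fpι A).map_add, G.map_comp, G.map_comp, G.map_comp,
    ← Preadditive.add_comp]
  exact congrArg (· ≫ G.map b) ((fpι A ⋙ G).map_add)

theorem preservesCoproducts [HasFiniteBiproducts B] (J : Type u) :
    PreservesColimitsOfShape (Discrete J) G := by
  haveI := additive_of_restriction G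
  haveI : PreservesFiniteBiproducts G := Functor.preservesFiniteBiproductsOfAdditive G
  haveI : PreservesFiniteCoproducts G := ⟨fun n => inferInstance⟩
  refine ⟨fun {K} => ?_⟩
  suffices h : PreservesColimit (Discrete.functor (K.obj ∘ Discrete.mk)) G from
    preservesColimit_of_iso_diagram G Discrete.natIsoFunctor.symm
  refine preservesColimit_of_preserves_colimit_cocone (colimit.isColimit _) ?_
  let f : J → ModuleCat.{u} A := K.obj ∘ Discrete.mk
  have hc := isColimitOfPreserves G (isColimitFiniteSubproductsCocone f)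
  have hS : ∀ S : Finset (Discrete J), IsColimit (G.mapCocone (colimit.cocone (Discrete.functor fun x : S => f x.1.as))) :=
    fun S => isColimitOfPreserves G (colimit.isColimit _)
  let leg (s : Cocone (Discrete.functor f ⋙ G)) (S : Finset (Discrete J)) :
      G.obj ((liftToFinsetObj (Discrete.functor f)).obj S) ⟶ s.pt :=
    (hS S).desc ⟨s.pt, Discrete.natTrans fun x => s.ι.app x.as.1⟩
  have hleg : ∀ (s : Cocone (Discrete.functor f ⋙ G)) (S : Finset (Discrete J)) (x : S),
      G.map (Sigma.ι (fun x : S => f x.1.as) x) ≫ leg s S = s.ι.app x.1 :=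
    fun s S x => (hS S).fac _ ⟨x⟩
  let desc (s : Cocone (Discrete.functor f ⋙ G)) := hc.desc ⟨s.pt,
    { app := fun S => leg s S
      naturality := fun S T h => by
        refine (hS S).hom_ext fun ⟨x⟩ => ?_
        show G.map (Sigma.ι _ x) ≫ G.map ((liftToFinsetObj (Discrete.functor f)).map h) ≫ leg s T =
          G.map (Sigma.ι _ x) ≫ leg s S ≫ 𝟙 _
        erw [Category.comp_id, hleg, ← G.map_comp_assoc]
        refine (congrArg (fun z => G.map z ≫ leg s T) (Sigma.ι_desc _ _)).trans ?_
        exact hleg s T ⟨x.1, h.down.down x.2⟩ }⟩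
  have hsing : ∀ (j : Discrete J), Sigma.ι (fun x : ({j} : Finset (Discrete J)) => f x.1.as) ⟨j, Finset.mem_singleton_self j⟩ ≫
      (finiteSubcoproductsCocone f).ι.app {j} = Sigma.ι f j.as := fun j => Sigma.ι_desc _ _
  have hdesc : ∀ s S, G.map ((finiteSubcoproductsCocone f).ι.app S) ≫ desc s = leg s S := fun s S => by
    simp only [desc]
    exact hc.fac _ S
  refine { desc := desc, fac := fun s j => ?_, uniq := fun s m hm => ?_ }
  · show G.map (Sigma.ι f j.as) ≫ desc s = s.ι.app j
    rw [← hsing j]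
    erw [G.map_comp, Category.assoc]
    refine (congrArg (G.map _ ≫ ·) (hdesc s ({j} : Finset (Discrete J)))).trans ?_
    exact hleg s {j} ⟨j, Finset.mem_singleton_self j⟩
  · refine hc.hom_ext fun S => ?_
    refine Eq.trans ?_ (hdesc s S).symm
    refine (hS S).hom_ext fun ⟨x⟩ => ?_
    show G.map (Sigma.ι _ x) ≫ G.map ((finiteSubcoproductsCocone f).ι.app S) ≫ m = G.map (Sigma.ι _ x) ≫ leg s S
    erw [hleg, ← G.map_comp_assoc]
    refine (congrArg (fun z => G.map z ≫ m) (Sigma.ι_desc _ _)).trans ?_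
    exact hm x.1

end Groth.Agent.FunMorLib
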