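import Groth.Agent.FunMorLib.FpHom
import Groth.Agent.Triage.FPColim

/-!
# Extending functors from finitely presented modules along filtered colimits
-/

universe v' u' u

open CategoryTheory CategoryTheory.Limits

namespace Groth.Agent.FunMorLib

variable {A : Type u} [CommRing A]

variable (A) in
/-- The inclusion of finitely presented modules. -/
abbrev fpι : (isFP A).FullSubcategory ⥤ ModuleCat.{u} A := (isFP A).ι

/-- Finitely presented modules over `M`. -/
abbrev FpOver (M : ModuleCat.{u} A) := CostructuredArrow (fpι A) M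

instance essentiallySmall_isFP : ObjectProperty.EssentiallySmall.{u} (isFP A) where
  exists_small_le' := by
    refine ⟨.ofObj fun x : Σ n : ℕ, Submodule A (Fin n → A) => ModuleCat.of A ((Fin x.1 → A) ⧸ x.2),
      inferInstance, fun M hM => ?_⟩
    haveI : Module.FinitePresentation A M := hM
    obtain ⟨n, π, hπ⟩ := Module.Finite.exists_fin' A M
    exact ⟨_, .mk ⟨n, LinearMap.ker π⟩, ⟨(π.quotKerEquivOfSurjective hπ).symm.toModuleIso⟩⟩

instance isFiltered_fpOver (M : ModuleCat.{u} A) : IsFiltered (FpOver M) := by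
  refine { cocone_objs := fun a b => ?_, cocone_maps := fun a b f g => ?_, nonempty := ?_ }
  · let Z : (isFP A).FullSubcategory :=
      ⟨ModuleCat.of A (a.left.obj × b.left.obj), Module.FinitePresentation.prod _ _⟩
    let z : FpOver M := CostructuredArrow.mk (Y := Z) (ModuleCat.ofHom (a.hom.hom.coprod b.hom.hom))
    refine ⟨z, CostructuredArrow.homMk (ObjectProperty.homMk (ModuleCat.ofHom (LinearMap.inl A _ _))) ?_,
      CostructuredArrow.homMk (ObjectProperty.homMk (ModuleCat.ofHom (LinearMap.inr A _ _))) ?_, trivial⟩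
    · exact ModuleCat.hom_ext (LinearMap.coprod_inl _ _)
    · exact ModuleCat.hom_ext (LinearMap.coprod_inr _ _)
  · let d : a.left ⟶ b.left := f.left - g.left
    have hd : LinearMap.range d.hom.hom ≤ LinearMap.ker b.hom.hom := by
      rintro _ ⟨x, rfl⟩
      have h1 := congrArg (fun φ => φ.hom x) (CostructuredArrow.w f)
      have h2 := congrArg (fun φ => φ.hom x) (CostructuredArrow.w g)
      show b.hom.hom (f.left.hom.hom x - g.left.hom.hom x) = 0
      rw [map_sub, sub_eq_zero]
      exact h1.trans h2.symm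
    let z : FpOver M := CostructuredArrow.mk (Y := cokObj d) (ModuleCat.ofHom (Submodule.liftQ _ _ hd))
    refine ⟨z, CostructuredArrow.homMk (cokπ d) ?_, ?_⟩
    · exact ModuleCat.hom_ext (Submodule.liftQ_mkQ _ _ _)
    · apply CostructuredArrow.hom_ext
      have h := cok_condition d
      rw [Preadditive.sub_comp, sub_eq_zero] at h
      exact h
  · exact ⟨CostructuredArrow.mk (Y := unit A) 0⟩

/-- The canonical cocone of finitely presented modules over `M`. -/
abbrev fpCocone (M : ModuleCat.{u} A) : Cocone (CostructuredArrow.proj (fpι A) M ⋙ fpι A) :=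
  { pt := M
    ι := { app := fun a => a.hom
           naturality := fun a b f => by
             show (fpι A).map f.left ≫ b.hom = a.hom ≫ 𝟙 M
             rw [CostructuredArrow.w f, Category.comp_id] } }

/-- The element `m` as a module over `M`. -/
abbrev pt {M : ModuleCat.{u} A} (m : M) : FpOver M :=
  CostructuredArrow.mk (Y := unit A) (ModuleCat.ofHom (LinearMap.toSpanSingleton A M m))

/-- A module is the colimit of the finitely presented modules over it. -/
noncomputable def isColimitFpCocone (M : ModuleCat.{u} A) : IsColimit (fpCocone M) := by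
  let val (s : Cocone (CostructuredArrow.proj (fpι A) M ⋙ fpι A)) (m : M) : s.pt := (s.ι.app (pt m)).hom (1 : A)
  have key : ∀ (s : Cocone (CostructuredArrow.proj (fpι A) M ⋙ fpι A)) (a : FpOver M) (x : a.left.obj),
      val s (a.hom.hom x) = (s.ι.app a).hom x := by
    intro s a x
    let g : pt (a.hom.hom x) ⟶ a := CostructuredArrow.homMk (sp x) (ModuleCat.hom_ext (LinearMap.ext_ring (by
      show a.hom.hom ((1 : A) • x) = (1 : A) • a.hom.hom x
      rw [one_smul, one_smul])))
    have := congrArg (fun φ => φ.hom (1 : A)) (s.w g)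
    refine this.symm.trans ?_
    show (s.ι.app a).hom ((1 : A) • x) = _
    rw [one_smul]
  have hadd : ∀ s (m m' : M), val s (m + m') = val s m + val s m' := by
    intro s m m'
    let Z : FpOver M := CostructuredArrow.mk (Y := ⟨ModuleCat.of A (A × A), Module.FinitePresentation.prod _ _⟩)
      (ModuleCat.ofHom ((LinearMap.toSpanSingleton A M m).coprod (LinearMap.toSpanSingleton A M m')))
    have h1 : Z.hom.hom ((1, 0) : A × A) = m := by
      show (1 : A) • m + (0 : A) • m' = m
      simp
    have h2 : Z.hom.hom ((0, 1) : A × A) = m' := by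
      show (0 : A) • m + (1 : A) • m' = m'
      simp
    have h3 : Z.hom.hom (((1, 0) : A × A) + (0, 1)) = m + m' := by rw [← h1, ← h2]; exact map_add Z.hom.hom _ _
    rw [← h3, key]
    refine ((s.ι.app Z).hom.map_add ((1, 0) : A × A) (0, 1)).trans ?_
    refine (congrArg₂ (· + ·) (key s Z ((1, 0) : A × A)).symm (key s Z ((0, 1) : A × A)).symm).trans ?_
    rw [h1, h2]
  have hsmul : ∀ s (c : A) (m : M), val s (c • m) = c • val s m := by
    intro s c m
    have h1 : (pt m).hom.hom c = c • m := rfl
    rw [← h1, key]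
    refine Eq.trans (congrArg (s.ι.app (pt m)).hom (show (c : A) = c • (1 : A) from (mul_one c).symm)) ?_
    exact (s.ι.app (pt m)).hom.map_smul c (1 : A)
  exact
    { desc := fun s => ModuleCat.ofHom { toFun := val s, map_add' := hadd s, map_smul' := hsmul s }
      fac := fun s a => ModuleCat.hom_ext (LinearMap.ext (key s a))
      uniq := fun s g hg => ModuleCat.hom_ext (LinearMap.ext fun m => by
        have := congrArg (fun φ => φ.hom (1 : A)) (hg (pt m))
        refine Eq.trans ?_ this
        show g.hom m = g.hom ((1 : A) • m)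
        rw [one_smul]) }

section Fact

variable {J : Type u} [SmallCategory J] [IsFiltered J] {D : J ⥤ ModuleCat.{u} A} {c : Cocone D}

/-- A map out of a finitely presented module into a filtered colimit factors through a stage. -/
theorem exists_factor (hc : IsColimit c) (P : (isFP A).FullSubcategory) (g : P.obj ⟶ c.pt) :
    ∃ (j : J) (h : P.obj ⟶ D.obj j), h ≫ c.ι.app j = g := by
  haveI : Module.FinitePresentation A P.obj := P.property
  let e := IsColimit.coconePointUniqueUpToIso hc (colimit.isColimit D)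
  obtain ⟨z, hz⟩ := (Triage.FPColim.bijective D P.obj).2 (g ≫ e.hom)
  obtain ⟨j, f, rfl⟩ := Types.jointly_surjective' z
  refine ⟨j, f, ?_⟩
  rw [Triage.FPColim.post_ι] at hz
  rw [← cancel_mono e.hom, Category.assoc, IsColimit.comp_coconePointUniqueUpToIso_hom]
  exact hz

/-- Two factorisations agree at a later stage. -/
theorem exists_eq (hc : IsColimit c) (P : (isFP A).FullSubcategory) {j₁ j₂ : J} (h₁ : P.obj ⟶ D.obj j₁)
    (h₂ : P.obj ⟶ D.obj j₂) (h : h₁ ≫ c.ι.app j₁ = h₂ ≫ c.ι.app j₂) :
    ∃ (k : J) (a : j₁ ⟶ k) (b : j₂ ⟶ k), h₁ ≫ D.map a = h₂ ≫ D.map b := by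
  haveI : Module.FinitePresentation A P.obj := P.property
  let e := IsColimit.coconePointUniqueUpToIso hc (colimit.isColimit D)
  have h' : colimit.ι (D ⋙ coyoneda.obj (Opposite.op P.obj)) j₁ h₁ =
      colimit.ι (D ⋙ coyoneda.obj (Opposite.op P.obj)) j₂ h₂ := by
    apply (Triage.FPColim.bijective D P.obj).1
    rw [Triage.FPColim.post_ι, Triage.FPColim.post_ι]
    have := h =≫ e.hom
    rwa [Category.assoc, Category.assoc, IsColimit.comp_coconePointUniqueUpToIso_hom,
      IsColimit.comp_coconePointUniqueUpToIso_hom] at this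
  obtain ⟨k, a, b, hab⟩ := (Types.FilteredColimit.colimit_eq_iff _).1 h'
  exact ⟨k, a, b, hab⟩

end Fact

variable {B : Type u'} [Category.{v'} B]

theorem preservesColimitsOfShape_fpOver (G : ModuleCat.{u} A ⥤ B) [PreservesFilteredColimitsOfSize.{u, u} G]
    (M : ModuleCat.{u} A) : PreservesColimitsOfShape (FpOver M) G := by
  haveI : IsFiltered (SmallModel.{u} (FpOver M)) := IsFiltered.of_equivalence (equivSmallModel _)
  exact preservesColimitsOfShape_of_equiv (equivSmallModel.{u} (FpOver M)).symm G

/-- A functor preserving filtered colimits is the left Kan extension of its restriction. -/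
noncomputable def isPointwise (G : ModuleCat.{u} A ⥤ B) [PreservesFilteredColimitsOfSize.{u, u} G] :
    (Functor.LeftExtension.mk G (𝟙 (fpι A ⋙ G))).IsPointwiseLeftKanExtension := fun M => by
  haveI := preservesColimitsOfShape_fpOver G M
  exact IsColimit.ofIsoColimit (isColimitOfPreserves G (isColimitFpCocone M))
    (Cocone.ext (Iso.refl _) fun a => by
      show G.map a.hom ≫ 𝟙 _ = 𝟙 _ ≫ G.map a.hom
      rw [Category.comp_id, Category.id_comp])

theorem nonempty_iso (G₁ G₂ : ModuleCat.{u} A ⥤ B) [PreservesFilteredColimitsOfSize.{u, u} G₁]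
    [PreservesFilteredColimitsOfSize.{u, u} G₂] (e : fpι A ⋙ G₁ ≅ fpι A ⋙ G₂) : Nonempty (G₁ ≅ G₂) := by
  haveI : G₁.IsLeftKanExtension (𝟙 (fpι A ⋙ G₁)) := (isPointwise G₁).isLeftKanExtension
  haveI : G₂.IsLeftKanExtension (𝟙 (fpι A ⋙ G₂)) := (isPointwise G₂).isLeftKanExtension
  exact ⟨Functor.leftKanExtensionUniqueOfIso G₁ (𝟙 _) e G₂ (𝟙 _)⟩

variable [HasFilteredColimitsOfSize.{u, u} B] (F : (isFP A).FullSubcategory ⥤ B)

instance hasColimitsOfShape_fpOver (M : ModuleCat.{u} A) : HasColimitsOfShape (FpOver M) B := by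
  haveI : IsFiltered (SmallModel.{u} (FpOver M)) := IsFiltered.of_equivalence (equivSmallModel _)
  exact hasColimitsOfShape_of_equivalence (equivSmallModel.{u} (FpOver M)).symm

instance : (fpι A).HasPointwiseLeftKanExtension F := fun _ => inferInstance

/-- The extension to all modules. -/
noncomputable abbrev indExt : ModuleCat.{u} A ⥤ B := (fpι A).pointwiseLeftKanExtension F

theorem isIso_unit : IsIso ((fpι A).pointwiseLeftKanExtensionUnit F) :=
  ((fpι A).pointwiseLeftKanExtensionIsPointwiseLeftKanExtension F).isIso_hom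

/-- The structure map of the extension. -/
noncomputable def ιC (M : ModuleCat.{u} A) (a : FpOver M) : F.obj a.left ⟶ (indExt F).obj M :=
  colimit.ι (CostructuredArrow.proj (fpι A) M ⋙ F) a

theorem ιC_map {M N : ModuleCat.{u} A} (f : M ⟶ N) (a : FpOver M) :
    ιC F M a ≫ (indExt F).map f = ιC F N ((CostructuredArrow.map f).obj a) :=
  colimit.ι_desc _ _

theorem ιC_congr {M : ModuleCat.{u} A} {P : (isFP A).FullSubcategory} {h h' : P.obj ⟶ M} (e : h = h') :
    ιC F M (CostructuredArrow.mk h) = ιC F M (CostructuredArrow.mk h') := by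
  subst e; rfl

theorem ιC_w {M : ModuleCat.{u} A} {a b : FpOver M} (f : a ⟶ b) : F.map f.left ≫ ιC F M b = ιC F M a :=
  colimit.w (CostructuredArrow.proj (fpι A) M ⋙ F) f

theorem preservesFilteredColimits_indExt : PreservesFilteredColimitsOfSize.{u, u} (indExt F) := by
  refine ⟨fun J _ _ => ⟨fun {D} => ⟨fun {c} hc => ⟨?_⟩⟩⟩⟩
  choose jj hh hhh using fun a : FpOver c.pt => exists_factor hc a.left a.hom
  let val (s : Cocone (D ⋙ indExt F)) (a : FpOver c.pt) : F.obj a.left ⟶ s.pt :=
    ιC F (D.obj (jj a)) (CostructuredArrow.mk (hh a)) ≫ s.ι.app (jj a)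
  have key : ∀ (s : Cocone (D ⋙ indExt F)) (a : FpOver c.pt) (j : J) (h : a.left.obj ⟶ D.obj j),
      h ≫ c.ι.app j = a.hom → ιC F (D.obj j) (CostructuredArrow.mk h) ≫ s.ι.app j = val s a := by
    intro s a j h hh'
    obtain ⟨k, p, q, hpq⟩ := exists_eq hc a.left h (hh a) (hh'.trans (hhh a).symm)
    have e1 : ∀ (i : J) (r : i ⟶ k) (g : a.left.obj ⟶ D.obj i),
        ιC F (D.obj i) (CostructuredArrow.mk g) ≫ s.ι.app i =
          ιC F (D.obj k) (CostructuredArrow.mk (g ≫ D.map r)) ≫ s.ι.app k := by
      intro i r g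
      have h1 : (indExt F).map (D.map r) ≫ s.ι.app k = s.ι.app i := s.w r
      rw [← h1]
      exact (Category.assoc _ _ _).symm.trans (congrArg (· ≫ s.ι.app k) (ιC_map F (D.map r) (CostructuredArrow.mk g)))
    rw [e1 j p h, hpq, ← e1 (jj a) q (hh a)]
  let desc (s : Cocone (D ⋙ indExt F)) : (indExt F).obj c.pt ⟶ s.pt :=
    colimit.desc (CostructuredArrow.proj (fpι A) c.pt ⋙ F) ⟨s.pt,
      { app := fun a => val s a
        naturality := fun a b f => by
          show F.map f.left ≫ val s b = val s a ≫ 𝟙 _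
          rw [Category.comp_id, ← key s a (jj b) ((fpι A).map f.left ≫ hh b) (by
            rw [Category.assoc, hhh b]; exact CostructuredArrow.w f)]
          exact (Category.assoc _ _ _).symm.trans (congrArg (· ≫ s.ι.app (jj b)) (ιC_w F
            (CostructuredArrow.homMk f.left rfl :
              CostructuredArrow.mk ((fpι A).map f.left ≫ hh b) ⟶ CostructuredArrow.mk (hh b)))) }⟩
  have hdesc : ∀ (s : Cocone (D ⋙ indExt F)) (a : FpOver c.pt), ιC F c.pt a ≫ desc s = val s a := fun s a => by
    simp only [desc, ιC]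
    exact colimit.ι_desc _ a
  refine { desc := desc, fac := fun s j => ?_, uniq := fun s g hg => ?_ }
  · refine colimit.hom_ext fun a => ?_
    show ιC F (D.obj j) a ≫ (indExt F).map (c.ι.app j) ≫ desc s = ιC F (D.obj j) a ≫ s.ι.app j
    refine (Category.assoc _ _ _).symm.trans ((congrArg (· ≫ desc s) (ιC_map F (c.ι.app j) a)).trans ?_)
    refine (hdesc s _).trans ?_
    exact (key s ((CostructuredArrow.map (c.ι.app j)).obj a) j a.hom rfl).symm
  · refine colimit.hom_ext (F := CostructuredArrow.proj (fpι A) c.pt ⋙ F) fun a => ?_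
    refine Eq.trans ?_ (hdesc s a).symm
    show ιC F c.pt a ≫ g = ιC F (D.obj (jj a)) (CostructuredArrow.mk (hh a)) ≫ s.ι.app (jj a)
    have h1 : (indExt F).map (c.ι.app (jj a)) ≫ g = s.ι.app (jj a) := hg (jj a)
    rw [← h1]
    refine Eq.trans ?_ ((congrArg (· ≫ g) (ιC_map F (c.ι.app (jj a)) (CostructuredArrow.mk (hh a)))).symm.trans
      (Category.assoc _ _ _))
    exact congrArg (· ≫ g) (ιC_congr F (hhh a).symm)

end Groth.Agent.FunMorLib
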