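import Groth.Agent.FunMorLib.IndAdd
import Groth.Agent.CAlgUI.Coherent

/-!
# Left exactness of functors preserving filtered colimits
-/

set_option autoImplicit false
universe v' u' u

open CategoryTheory CategoryTheory.Limits

namespace Groth.Agent.FunMorLib

variable {A : Type u} [CommRing A] (hcoh : ∀ I : Ideal A, I.FG → Module.FinitePresentation A I)

include hcoh in
theorem finitePresentation_ker {P Q : Type u} [AddCommGroup P] [Module A P] [AddCommGroup Q]
    [Module A Q] [Module.FinitePresentation A P] [Module.FinitePresentation A Q] (φ : P →ₗ[A] Q) :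
    Module.FinitePresentation A (LinearMap.ker φ) := by
  have hQ := CAlgUI.subFP_of_finitePresentation (M := Q) hcoh
  have hP := CAlgUI.subFP_of_finitePresentation (M := P) hcoh
  haveI : Module.FinitePresentation A (LinearMap.range φ) := hQ _ (Module.Finite.fg_top.map φ |> fun h => by
    rwa [Submodule.map_top] at h)
  refine hP _ ?_
  rw [← LinearMap.ker_rangeRestrict φ]
  exact Module.FinitePresentation.fg_ker φ.rangeRestrict φ.surjective_rangeRestrict

/-- The kernel of a map of finitely presented modules, as a finitely presented module. -/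
def kerObj {a b : (isFP A).FullSubcategory} (φ : a ⟶ b) : (isFP A).FullSubcategory :=
  ⟨ModuleCat.of A (LinearMap.ker φ.hom.hom),
    haveI : Module.FinitePresentation A a.obj := a.property
    haveI : Module.FinitePresentation A b.obj := b.property
    finitePresentation_ker hcoh φ.hom.hom⟩

/-- The inclusion of the kernel. -/
def kerι {a b : (isFP A).FullSubcategory} (φ : a ⟶ b) : kerObj hcoh φ ⟶ a :=
  ObjectProperty.homMk (ModuleCat.ofHom (LinearMap.ker φ.hom.hom).subtype)

theorem kerι_comp {a b : (isFP A).FullSubcategory} (φ : a ⟶ b) : kerι hcoh φ ≫ φ = 0 := by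
  apply (fpι A).map_injective
  apply ModuleCat.hom_ext
  apply LinearMap.ext
  intro x
  exact x.2

variable {B : Type u'} [Category.{v'} B] [Preadditive B] (G : ModuleCat.{u} A ⥤ B)

theorem additive_fp_of_leftExact [HasFiniteBiproducts B] [PreservesFiniteLimits (fpι A ⋙ G)] :
    (fpι A ⋙ G).Additive := by
  haveI : HasZeroObject B := Limits.hasZeroObject_of_hasFiniteBiproducts B
  haveI : (fpι A ⋙ G).PreservesZeroMorphisms := Functor.preservesZeroMorphisms_of_preserves_terminal_object
  haveI : PreservesBinaryBiproducts (fpι A ⋙ G) := preservesBinaryBiproducts_of_preservesBinaryProducts _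
  exact Functor.additive_of_preservesBinaryBiproducts _

theorem additive_of_leftExact [HasFiniteBiproducts B] [PreservesFilteredColimitsOfSize.{u, u} G]
    [PreservesFiniteLimits (fpι A ⋙ G)] : G.Additive := by
  haveI := additive_fp_of_leftExact G
  exact additive_of_restriction G

include hcoh in
theorem preservesKernel_fp [G.Additive] [PreservesFiniteLimits (fpι A ⋙ G)] {a b : (isFP A).FullSubcategory}
    (φ : a ⟶ b) : PreservesLimit (parallelPair φ.hom 0) G := by
  let ι := fpι A
  have hK : IsLimit (KernelFork.ofι (kerι hcoh φ).hom (congrArg (fun t => t.hom) (kerι_comp hcoh φ)) :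
      KernelFork φ.hom) := ModuleCat.kernelIsLimit φ.hom
  have hK₀ : IsLimit (KernelFork.ofι (kerι hcoh φ) (kerι_comp hcoh φ)) := by
    refine isLimitOfReflects ι ?_
    exact (isLimitMapConeForkEquiv' ι (kerι_comp hcoh φ)).symm hK
  refine preservesLimit_of_preserves_limit_cone hK ?_
  refine (isLimitMapConeForkEquiv' G _).symm ?_
  exact isLimitForkMapOfIsLimit' (ι ⋙ G) (kerι_comp hcoh φ) hK₀

/-- The index category of a morphism of modules: finitely presented modules over the source and the
target with a compatible map between them. -/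
abbrev ArrIdx {M N : ModuleCat.{u} A} (f : M ⟶ N) :=
  Comma ((equivSmallModel.{u} (FpOver M)).inverse ⋙ CostructuredArrow.map f)
    (equivSmallModel.{u} (FpOver N)).inverse

section Arr

variable {M N : ModuleCat.{u} A} (f : M ⟶ N)

instance : IsFiltered (SmallModel.{u} (FpOver M)) := IsFiltered.of_equivalence (equivSmallModel _)

instance : IsFiltered (ArrIdx f) := inferInstance

/-- The sources. -/
noncomputable abbrev arrSrc : ArrIdx f ⥤ ModuleCat.{u} A :=
  (Comma.fst _ _ ⋙ (equivSmallModel.{u} (FpOver M)).inverse) ⋙ CostructuredArrow.proj (fpι A) M ⋙ fpι A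

/-- The targets. -/
noncomputable abbrev arrTgt : ArrIdx f ⥤ ModuleCat.{u} A :=
  (Comma.snd _ _ ⋙ (equivSmallModel.{u} (FpOver N)).inverse) ⋙ CostructuredArrow.proj (fpι A) N ⋙ fpι A

/-- The maps. -/
noncomputable def arrTau : arrSrc f ⟶ arrTgt f where
  app j := (fpι A).map j.hom.left
  naturality j k g := by
    have h := congrArg (fpι A).map (congrArg CommaMorphism.left g.w)
    exact ((fpι A).map_comp _ _).symm.trans (h.trans ((fpι A).map_comp _ _))

/-- The sources converge to the source. -/
noncomputable def isColimitSrc :
    IsColimit ((fpCocone M).whisker (Comma.fst _ _ ⋙ (equivSmallModel.{u} (FpOver M)).inverse) :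
      Cocone (arrSrc f)) :=
  (Functor.Final.isColimitWhiskerEquiv _ (fpCocone M)).symm (isColimitFpCocone M)

/-- The targets converge to the target. -/
noncomputable def isColimitTgt :
    IsColimit ((fpCocone N).whisker (Comma.snd _ _ ⋙ (equivSmallModel.{u} (FpOver N)).inverse) :
      Cocone (arrTgt f)) :=
  (Functor.Final.isColimitWhiskerEquiv _ (fpCocone N)).symm (isColimitFpCocone N)

/-- The morphism is the colimit of its finitely presented approximations. -/
noncomputable def arrIso : parallelPair (colim.map (arrTau f)) 0 ≅ parallelPair f 0 := by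
  refine parallelPair.ext ((colimit.isColimit _).coconePointUniqueUpToIso (isColimitSrc f))
    ((colimit.isColimit _).coconePointUniqueUpToIso (isColimitTgt f)) ?_ ?_
  · refine colimit.hom_ext fun j => ?_
    simp only [parallelPair_map_left, colim_map, ι_colimMap_assoc]
    rw [← colimit.cocone_ι, ← colimit.cocone_ι]
    erw [IsColimit.comp_coconePointUniqueUpToIso_hom, IsColimit.comp_coconePointUniqueUpToIso_hom_assoc]
    exact CostructuredArrow.w j.hom
  · simp

end Arr

include hcoh in
theorem preservesFiniteLimits_of_restriction [HasFiniteBiproducts B] [HasKernels B]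
    [HasFilteredColimitsOfSize.{u, u} B]
    (hcomm : ∀ (J : Type u) [SmallCategory J] [IsFiltered J],
      PreservesLimitsOfShape WalkingParallelPair (colim : (J ⥤ B) ⥤ B))
    [PreservesFilteredColimitsOfSize.{u, u} G] [PreservesFiniteLimits (fpι A ⋙ G)] :
    PreservesFiniteLimits G := by
  haveI := additive_of_leftExact G
  haveI : HasZeroObject B := Limits.hasZeroObject_of_hasFiniteBiproducts B
  haveI : HasEqualizers B := Preadditive.hasEqualizers_of_hasKernels
  haveI : ∀ {M N : ModuleCat.{u} A} (f : M ⟶ N), PreservesLimit (parallelPair f 0) G := by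
    intro M N f
    let J := ArrIdx f
    haveI : HasColimitsOfShape J B := HasFilteredColimitsOfSize.HasColimitsOfShape J
    haveI : PreservesColimitsOfShape J G := PreservesFilteredColimitsOfSize.preserves_filtered_colimits J
    let W := (Functor.whiskeringRight J (ModuleCat.{u} A) B).obj G
    haveI : PreservesLimit (parallelPair (arrTau f) 0) W := by
      refine preservesLimit_of_preserves_limit_cone (limit.isLimit _) ?_
      refine evaluationJointlyReflectsLimits _ fun j => ?_
      haveI : PreservesLimit (parallelPair (arrTau f) 0 ⋙ (evaluation J (ModuleCat.{u} A)).obj j) G := by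
        haveI : PreservesLimit (parallelPair ((fpι A).map j.hom.left) 0) G :=
          preservesKernel_fp hcoh G (j.hom.left)
        exact preservesLimit_of_iso_diagram G
          (K₁ := parallelPair ((fpι A).map j.hom.left) 0)
          (parallelPair.ext (Iso.refl _) (Iso.refl _)
            ((Category.comp_id _).trans (Category.id_comp _).symm)
            ((Category.comp_id _).trans (Category.id_comp _).symm))
      exact isLimitOfPreserves G (isLimitOfPreserves ((evaluation J (ModuleCat.{u} A)).obj j)
        (limit.isLimit (parallelPair (arrTau f) 0)))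
    haveI := hcomm J
    haveI : PreservesLimit (parallelPair (arrTau f) 0) (W ⋙ colim) := inferInstance
    haveI : PreservesLimit (parallelPair (arrTau f) 0) ((colim : (J ⥤ ModuleCat.{u} A) ⥤ _) ⋙ G) :=
      preservesLimit_of_natIso _ (preservesColimitNatIso G).symm
    haveI : PreservesLimit (parallelPair (arrTau f) 0) (colim : (J ⥤ ModuleCat.{u} A) ⥤ _) := inferInstance
    haveI : PreservesLimit (parallelPair (arrTau f) 0 ⋙ (colim : (J ⥤ ModuleCat.{u} A) ⥤ _)) G := by
      refine preservesLimit_of_preserves_limit_cone
        (isLimitOfPreserves (colim : (J ⥤ ModuleCat.{u} A) ⥤ _) (limit.isLimit _)) ?_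
      exact isLimitOfPreserves ((colim : (J ⥤ ModuleCat.{u} A) ⥤ _) ⋙ G) (limit.isLimit _)
    refine preservesLimit_of_iso_diagram G (K₁ := parallelPair (arrTau f) 0 ⋙ colim) ?_
    let e1 : parallelPair (arrTau f) 0 ⋙ (colim : (J ⥤ ModuleCat.{u} A) ⥤ _) ≅
        parallelPair (colim.map (arrTau f)) 0 :=
      parallelPair.ext (F := parallelPair (arrTau f) 0 ⋙ (colim : (J ⥤ ModuleCat.{u} A) ⥤ _))
        (G := parallelPair (colim.map (arrTau f)) 0) (Iso.refl _) (Iso.refl _)
        ((Category.comp_id _).trans (Category.id_comp _).symm) (by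
          simp only [Functor.comp_map, parallelPair_map_right, colim_map, Iso.refl_hom, Category.comp_id, Category.id_comp]

          refine colimit.hom_ext fun j => ?_
          simp)
    exact e1 ≪≫ arrIso f
  exact Functor.preservesFiniteLimits_of_preservesKernels G

end Groth.Agent.FunMorLib
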