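import Groth.Agent.FunMorLib.IndAdd

/-!
# Right exactness for functors preserving filtered colimits
-/

universe v' u' u

open CategoryTheory CategoryTheory.Limits

namespace Groth.Agent.FunMorLib

variable {A : Type u} [CommRing A] {B : Type u'} [Category.{v'} B] [Preadditive B] [HasFiniteBiproducts B]
  (G : ModuleCat.{u} A ⥤ B) [PreservesFilteredColimitsOfSize.{u, u} G] [PreservesFiniteColimits (fpι A ⋙ G)]

/-- The map sending `1` to `x`. -/
abbrev spM {M : ModuleCat.{u} A} (x : M) : (unit A).obj ⟶ M := ModuleCat.ofHom (LinearMap.toSpanSingleton A M x)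

theorem spM_comp {M N : ModuleCat.{u} A} (x : M) (g : M ⟶ N) : spM x ≫ g = spM (g.hom x) :=
  ModuleCat.hom_ext <| LinearMap.ext_ring <| by
    show g.hom ((1 : A) • x) = (1 : A) • g.hom x
    rw [one_smul, one_smul]

omit [Preadditive B] [HasFiniteBiproducts B] [PreservesFilteredColimitsOfSize.{u, u} G]
  [PreservesFiniteColimits (fpι A ⋙ G)] in
theorem map_sp_comp {P : (isFP A).FullSubcategory} {M : ModuleCat.{u} A} (x : P.obj) (g : P.obj ⟶ M) :
    (fpι A ⋙ G).map (sp x) ≫ G.map g = G.map (spM (g.hom x)) := by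
  show G.map (spM x) ≫ G.map g = _
  rw [← G.map_comp, spM_comp]

theorem existsUnique_descM (M : ModuleCat.{u} A) {T : B} (φ : M → (G.obj (unit A).obj ⟶ T))
    (hadd : ∀ x y, φ (x + y) = φ x + φ y) (hsmul : ∀ (a : A) x, φ (a • x) = (fpι A ⋙ G).map (mulHom a) ≫ φ x) :
    ∃! s : G.obj M ⟶ T, ∀ x, G.map (spM x) ≫ s = φ x := by
  have key : ∀ a : FpOver M, ∃! s : G.obj a.left.obj ⟶ T,
      ∀ x, (fpι A ⋙ G).map (sp x) ≫ s = φ (a.hom.hom x) := fun a =>
    existsUnique_desc (fpι A ⋙ G) a.left (T := T) _
      (fun x y => (congrArg φ (map_add a.hom.hom x y)).trans (hadd _ _))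
      (fun r x => (congrArg φ (a.hom.hom.map_smul r x)).trans (hsmul _ _))
  choose c hc hu using key
  have hM := (isPointwise G) M
  let s : Cocone (CostructuredArrow.proj (fpι A) M ⋙ fpι A ⋙ G) :=
    ⟨T, { app := c
          naturality := fun a b f => by
            show (fpι A ⋙ G).map f.left ≫ c b = c a ≫ 𝟙 _
            rw [Category.comp_id]
            refine hu a _ fun x => ?_
            rw [← (fpι A ⋙ G).map_comp_assoc, sp_comp, hc b]
            exact congrArg φ (congrArg (fun ψ => ψ.hom x) (CostructuredArrow.w f)) }⟩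
  have hleg : ∀ a : FpOver M, G.map a.hom ≫ hM.desc s = c a := fun a => by
    refine Eq.trans ?_ (hM.fac s a)
    show _ = (𝟙 _ ≫ G.map a.hom) ≫ _
    rw [Category.id_comp]
  refine ⟨hM.desc s, fun x => ?_, fun t ht => hM.hom_ext fun a => ?_⟩
  · have h1 := hc (pt x) (1 : A)
    have h3 : G.map (spM x) ≫ hM.desc s = c (pt x) := hleg (pt x)
    rw [h3]
    refine Eq.trans ?_ (h1.trans (congrArg φ (one_smul A x)))
    have h2 : sp (M := unit A) (1 : A) = 𝟙 (unit A) :=
      ObjectProperty.hom_ext _ (ModuleCat.hom_ext (LinearMap.ext_ring (one_smul A (1 : A))))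
    rw [show sp (M := (pt x).left) (1 : A) = 𝟙 (unit A) from h2, CategoryTheory.Functor.map_id]
    exact (Category.id_comp _).symm
  · show (𝟙 _ ≫ G.map a.hom) ≫ t = (𝟙 _ ≫ G.map a.hom) ≫ hM.desc s
    rw [Category.id_comp, hleg a]
    refine hu a _ fun y => ?_
    rw [← Category.assoc, map_sp_comp, ht]

theorem preservesFiniteColimits_of_restriction [HasCokernels B] : PreservesFiniteColimits G := by
  haveI : (fpι A ⋙ G).Additive := additive_of_rightExact _
  haveI := additive_of_restriction G
  haveI : ∀ {M N : ModuleCat.{u} A} (f : M ⟶ N), PreservesColimit (parallelPair f 0) G := fun {M N} f => by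
    let Q : ModuleCat.{u} A := ModuleCat.of A (N ⧸ LinearMap.range f.hom)
    let π : N ⟶ Q := ModuleCat.ofHom (LinearMap.range f.hom).mkQ
    refine preservesColimit_of_preserves_colimit_cocone (ModuleCat.cokernelIsColimit f) ?_
    refine (CokernelCofork.isColimitMapCoconeEquiv _ _).2 ?_
    have key : ∀ {T : B} (g : G.obj N ⟶ T), G.map f ≫ g = 0 → ∃! s : G.obj Q ⟶ T, G.map π ≫ s = g := by
      intro T g hg
      let φN : N →+ (G.obj (unit A).obj ⟶ T) := AddMonoidHom.mk' (fun x => G.map (spM x) ≫ g) fun x y => by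
        rw [← Preadditive.add_comp, ← G.map_add]
        exact congrArg (fun z => G.map z ≫ g) (ModuleCat.hom_ext (LinearMap.ext_ring (by
          show (1 : A) • (x + y) = (1 : A) • x + (1 : A) • y
          rw [smul_add])))
      have hk : ∀ x ∈ LinearMap.range f.hom, φN x = 0 := by
        rintro _ ⟨z, rfl⟩
        show G.map (spM (f.hom z)) ≫ g = 0
        rw [← spM_comp, G.map_comp, Category.assoc, hg, comp_zero]
      let φ : Q →+ (G.obj (unit A).obj ⟶ T) :=
        QuotientAddGroup.lift (LinearMap.range f.hom).toAddSubgroup φN fun x hx => hk x hx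
      have hφ : ∀ x, φ (π.hom x) = G.map (spM x) ≫ g := fun x => rfl
      obtain ⟨s, hs, hu⟩ := existsUnique_descM G Q (T := T) φ (map_add φ) (fun a q => by
        obtain ⟨x, rfl⟩ := Submodule.mkQ_surjective _ q
        refine ((congrArg φ (π.hom.map_smul a x)).symm.trans (hφ (a • x))).trans ?_
        show G.map (spM (a • x)) ≫ g = G.map (mulHom a).hom ≫ φ (π.hom x)
        rw [hφ, ← G.map_comp_assoc]
        exact congrArg (fun z => G.map z ≫ g) (ModuleCat.hom_ext (LinearMap.ext_ring (by
            show (1 : A) • a • x = (a • (1 : A)) • x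
            rw [one_smul, smul_eq_mul, mul_one]))))
      have huniv := existsUnique_descM G N (T := T) (fun x => G.map (spM x) ≫ g) (fun x y => φN.map_add x y) (fun a x => by
        show G.map (spM (a • x)) ≫ g = G.map (mulHom a).hom ≫ G.map (spM x) ≫ g
        rw [← G.map_comp_assoc]
        exact congrArg (fun z => G.map z ≫ g) (ModuleCat.hom_ext (LinearMap.ext_ring (by
            show (1 : A) • a • x = (a • (1 : A)) • x
            rw [one_smul, smul_eq_mul, mul_one]))))
      refine ⟨s, ?_, fun t ht => hu t fun q => ?_⟩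
      · refine huniv.unique (fun x => ?_) (fun x => rfl)
        rw [← G.map_comp_assoc, spM_comp, hs]
        exact hφ x
      · obtain ⟨x, rfl⟩ := Submodule.mkQ_surjective _ q
        refine Eq.trans ?_ (hφ x).symm
        rw [← ht, ← G.map_comp_assoc, spM_comp]
    exact CokernelCofork.IsColimit.ofπ _
      (show G.map f ≫ G.map π = 0 by
        rw [← G.map_comp, show f ≫ π = 0 from ModuleCat.hom_ext (LinearMap.range_mkQ_comp f.hom), G.map_zero])
      (fun g hg => (key g hg).choose) (fun g hg => (key g hg).choose_spec.1)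
      (fun g hg b hb => (key g hg).choose_spec.2 b hb)
  exact Functor.preservesFiniteColimits_of_preservesCokernels G

end Groth.Agent.FunMorLib
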